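import Mathlib
import Cfsg.Agent.Lib.Helper1.FrobPQ.Props

set_option autoImplicit false
set_option linter.unusedSectionVars false

namespace Cfsg.Agent.Lib.Helper1.FrobQ

open Cfsg.Agent.Lib.Helper18.Fpf4 Cfsg.Agent.Lib.Helper1.Ward Cfsg.Agent.Lib.Helper1.FrobPQ
open scoped commutatorElement

variable {M : Type*} [CommGroup M] [Finite M]

structure GTower (p q s r ℓ : ℕ) (A F S R : Subgroup (MulAut M)) : Prop where
  frob : FrobA p q A F
  hs : s.Prime
  hr : r.Prime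
  hℓ : ℓ.Prime
  expM : ∀ m : M, m ^ ℓ = 1
  Sgroup : IsPGroup s S
  Rgroup : IsPGroup r R
  hsr : s ≠ r
  hsℓ : s ≠ ℓ
  hsp : s ≠ p
  hsq : s ≠ q
  hrp : r ≠ p
  hrq : r ≠ q
  hℓp : ℓ ≠ p
  hℓq : ℓ ≠ q
  AS : A ≤ Subgroup.normalizer (S : Set (MulAut M))
  AR : A ≤ Subgroup.normalizer (R : Set (MulAut M))
  RS : R ≤ Subgroup.normalizer (S : Set (MulAut M))
  fpfM : ∀ m : M, (∀ a ∈ A, a m = m) → m = 1
  fpfS : ∀ y ∈ S, (∀ a ∈ A, a * y = y * a) → y = 1
  fpfR : ∀ x ∈ R, (∀ a ∈ A, a * x = x * a) → x = 1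
  nilSR : ∀ y ∈ S, (∀ f ∈ F, f * y = y * f) → ∀ x ∈ R, (∀ f ∈ F, f * x = x * f) → y * x = x * y
  nilMS : ∀ y ∈ S, (∀ f ∈ F, f * y = y * f) → ∀ m : M, (∀ f ∈ F, f m = m) → y m = m

namespace GTower

variable {p q s r ℓ : ℕ} {A F S R : Subgroup (MulAut M)}

theorem cardS (T : GTower p q s r ℓ A F S R) {S' : Subgroup (MulAut M)} (h : S' ≤ S) :
    ∃ n, Nat.card S' = s ^ n := by
  have := Fact.mk T.hs
  exact (IsPGroup.iff_card).mp (T.Sgroup.to_le h)

theorem cardR (T : GTower p q s r ℓ A F S R) {R' : Subgroup (MulAut M)} (h : R' ≤ R) :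
    ∃ n, Nat.card R' = r ^ n := by
  have := Fact.mk T.hr
  exact (IsPGroup.iff_card).mp (T.Rgroup.to_le h)

theorem cardM (T : GTower p q s r ℓ A F S R) : ∃ n, Nat.card M = ℓ ^ n := by
  have := Fact.mk T.hℓ
  apply (IsPGroup.iff_card).mp
  intro m
  exact ⟨1, by rw [pow_one]; exact T.expM m⟩

theorem cardA_dvd (T : GTower p q s r ℓ A F S R) {A' : Subgroup (MulAut M)} (h : A' ≤ A) :
    Nat.card A' ∣ p * q := T.frob.card ▸ Subgroup.card_dvd_of_le h

theorem cop_pq_pow (T : GTower p q s r ℓ A F S R) {t : ℕ} (ht : t.Prime) (htp : t ≠ p)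
    (htq : t ≠ q) (n : ℕ) : (p * q).Coprime (t ^ n) := by
  apply Nat.Coprime.pow_right
  exact Nat.Coprime.mul_left ((Nat.coprime_primes T.frob.hp ht).mpr (Ne.symm htp))
    ((Nat.coprime_primes T.frob.hq ht).mpr (Ne.symm htq))

theorem copAS (T : GTower p q s r ℓ A F S R) {A' S' : Subgroup (MulAut M)} (hA : A' ≤ A)
    (hS : S' ≤ S) : (Nat.card A').Coprime (Nat.card S') := by
  obtain ⟨n, hn⟩ := T.cardS hS
  rw [hn]
  exact Nat.Coprime.coprime_dvd_left (T.cardA_dvd hA) (T.cop_pq_pow T.hs T.hsp T.hsq n)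

theorem copAR (T : GTower p q s r ℓ A F S R) {A' R' : Subgroup (MulAut M)} (hA : A' ≤ A)
    (hR : R' ≤ R) : (Nat.card A').Coprime (Nat.card R') := by
  obtain ⟨n, hn⟩ := T.cardR hR
  rw [hn]
  exact Nat.Coprime.coprime_dvd_left (T.cardA_dvd hA) (T.cop_pq_pow T.hr T.hrp T.hrq n)

theorem copRS (T : GTower p q s r ℓ A F S R) {R' S' : Subgroup (MulAut M)} (hR : R' ≤ R)
    (hS : S' ≤ S) : (Nat.card R').Coprime (Nat.card S') := by
  obtain ⟨n, hn⟩ := T.cardR hR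
  obtain ⟨m, hm⟩ := T.cardS hS
  rw [hn, hm]
  exact coprime_pow_of_ne T.hr T.hs (Ne.symm T.hsr) n m

theorem copMA (T : GTower p q s r ℓ A F S R) : (Nat.card M).Coprime (Nat.card A) := by
  obtain ⟨n, hn⟩ := T.cardM
  rw [hn, T.frob.card]
  exact (T.cop_pq_pow T.hℓ T.hℓp T.hℓq n).symm

theorem copMs (T : GTower p q s r ℓ A F S R) : (Nat.card M).Coprime s := by
  obtain ⟨n, hn⟩ := T.cardM
  rw [hn]
  exact Nat.Coprime.pow_left n ((Nat.coprime_primes T.hℓ T.hs).mpr (Ne.symm T.hsℓ))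

theorem copAs (T : GTower p q s r ℓ A F S R) : (Nat.card A).Coprime s := by
  rw [T.frob.card]
  have := T.cop_pq_pow T.hs T.hsp T.hsq 1
  rwa [pow_one] at this

theorem solvS (T : GTower p q s r ℓ A F S R) {S' : Subgroup (MulAut M)} (hS : S' ≤ S) :
    Group.IsSolvable S' := by
  have := Fact.mk T.hs
  have h2 : Group.IsNilpotent S' := (T.Sgroup.to_le hS).isNilpotent
  infer_instance

theorem solvR (T : GTower p q s r ℓ A F S R) {R' : Subgroup (MulAut M)} (hR : R' ≤ R) :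
    Group.IsSolvable R' := by
  have := Fact.mk T.hr
  have h2 : Group.IsNilpotent R' := (T.Rgroup.to_le hR).isNilpotent
  infer_instance

theorem subR (T : GTower p q s r ℓ A F S R) {R' : Subgroup (MulAut M)} (hR : R' ≤ R)
    (hAR : A ≤ Subgroup.normalizer (R' : Set (MulAut M))) : GTower p q s r ℓ A F S R' :=
  { T with
    Rgroup := T.Rgroup.to_le hR
    AR := hAR
    RS := hR.trans T.RS
    fpfR := fun x hx h => T.fpfR x (hR hx) h
    nilSR := fun y hy hyf x hx hxf => T.nilSR y hy hyf x (hR hx) hxf }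

theorem subS (T : GTower p q s r ℓ A F S R) {S' : Subgroup (MulAut M)} (hS : S' ≤ S)
    (hAS : A ≤ Subgroup.normalizer (S' : Set (MulAut M)))
    (hRS : R ≤ Subgroup.normalizer (S' : Set (MulAut M))) : GTower p q s r ℓ A F S' R :=
  { T with
    Sgroup := T.Sgroup.to_le hS
    AS := hAS
    RS := hRS
    fpfS := fun y hy h => T.fpfS y (hS hy) h
    nilSR := fun y hy hyf x hx hxf => T.nilSR y (hS hy) hyf x hx hxf
    nilMS := fun y hy hyf m hm => T.nilMS y (hS hy) hyf m hm }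

end GTower

structure GRed (p q s r ℓ : ℕ) (A F S R : Subgroup (MulAut M)) : Prop where
  T : GTower p q s r ℓ A F S R
  hSR : ⁅S, R⁆ = S
  hne : S ≠ ⊥
  subS : ∀ S' : Subgroup (MulAut M), S' ≤ S → A ≤ Subgroup.normalizer (S' : Set (MulAut M)) →
    R ≤ Subgroup.normalizer (S' : Set (MulAut M)) → S' ≠ S → ⁅S', R⁆ = ⊥
  subR : ∀ R' : Subgroup (MulAut M), R' ≤ R → A ≤ Subgroup.normalizer (R' : Set (MulAut M)) →
    R' ≠ R → ⁅S, R'⁆ = ⊥

namespace GRed

variable {p q s r ℓ : ℕ} {A F S R : Subgroup (MulAut M)}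

theorem R_not_le (h : GRed p q s r ℓ A F S R) : ¬ R ≤ Subgroup.centralizer (S : Set (MulAut M)) := by
  intro hle
  apply h.hne
  rw [← h.hSR]
  exact comm_bot_of_le_centralizer hle

theorem subR_le (h : GRed p q s r ℓ A F S R) {R' : Subgroup (MulAut M)} (hR : R' ≤ R)
    (hA : A ≤ Subgroup.normalizer (R' : Set (MulAut M))) (hne : R' ≠ R) :
    R' ≤ Subgroup.centralizer (S : Set (MulAut M)) :=
  le_centralizer_of_comm_bot (h.subR R' hR hA hne)

theorem R_ne_bot (h : GRed p q s r ℓ A F S R) : R ≠ ⊥ := by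
  intro hR
  apply h.R_not_le
  rw [hR]
  exact bot_le

theorem FR (h : GRed p q s r ℓ A F S R) : F ≤ Subgroup.normalizer (R : Set (MulAut M)) :=
  h.T.frob.FA.trans h.T.AR

theorem dichotomy (h : GRed p q s r ℓ A F S R) :
    (R ≤ Subgroup.centralizer (F : Set (MulAut M))) ∨
      (⁅R, F⁆ = R ∧ R ⊓ Subgroup.centralizer (F : Set (MulAut M)) ≤
        Subgroup.centralizer (S : Set (MulAut M))) := by
  by_cases h1 : R ⊓ Subgroup.centralizer (F : Set (MulAut M)) = R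
  · left
    rw [← h1]
    exact inf_le_right
  right
  have hA1 : A ≤ Subgroup.normalizer
      ((R ⊓ Subgroup.centralizer (F : Set (MulAut M)) : Subgroup (MulAut M)) : Set (MulAut M)) :=
    normalizer_inf h.T.AR (normalizer_centralizer h.T.frob.AF)
  have h2 := h.subR_le inf_le_left hA1 h1
  refine ⟨?_, h2⟩
  by_contra h3
  have hA2 : A ≤ Subgroup.normalizer ((⁅R, F⁆ : Subgroup (MulAut M)) : Set (MulAut M)) :=
    normalizer_commutator h.T.AR h.T.frob.AF
  have hle : ⁅R, F⁆ ≤ R := Subgroup.le_normalizer_iff_commutator_le_left.mp h.FR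
  have h4 := h.subR_le hle hA2 h3
  have h26 := Cfsg.Agent.S0026.result F R h.FR (h.T.copAR h.T.frob.FA (le_refl R))
    (Or.inr (h.T.solvR (le_refl R)))
  apply h.R_not_le
  rw [← h26]
  exact sup_le h4 h2

theorem derived_R_le (h : GRed p q s r ℓ A F S R) :
    ⁅R, R⁆ ≤ Subgroup.centralizer (S : Set (MulAut M)) := by
  apply h.subR_le (Subgroup.commutator_le_self R) (normalizer_commutator h.T.AR h.T.AR)
  exact derived_ne_self (h.T.solvR (le_refl R)) h.R_ne_bot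

theorem sub_le (h : GRed p q s r ℓ A F S R) {N₁ : Subgroup (MulAut M)} (hN₁S : N₁ ≤ S)
    (hS : S ≤ Subgroup.normalizer (N₁ : Set (MulAut M)))
    (hR : R ≤ Subgroup.normalizer (N₁ : Set (MulAut M)))
    (hA : A ≤ Subgroup.normalizer (N₁ : Set (MulAut M))) (hne : N₁ ≠ S) :
    N₁ ≤ Subgroup.centralizer (S : Set (MulAut M)) ⊓ Subgroup.centralizer (R : Set (MulAut M)) := by
  have h1 : ⁅N₁, R⁆ = ⊥ := h.subS N₁ hN₁S hA hR hne
  have h2 : ⁅⁅R, N₁⁆, S⁆ = ⊥ := by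
    rw [Subgroup.commutator_comm R N₁, h1, Subgroup.commutator_bot_left]
  have h3 : ⁅⁅N₁, S⁆, R⁆ = ⊥ := by
    rw [eq_bot_iff, ← h1]
    exact Subgroup.commutator_mono (Subgroup.le_normalizer_iff_commutator_le_left.mp hS) (le_refl R)
  have h4 : ⁅⁅S, R⁆, N₁⁆ = ⊥ := Subgroup.commutator_commutator_eq_bot_of_rotate h2 h3
  rw [h.hSR] at h4
  refine le_inf ?_ ?_
  · have := le_centralizer_of_comm_bot h4
    exact this
  · rw [Subgroup.commutator_comm] at h1
    exact le_centralizer_of_comm_bot h1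

end GRed

end Cfsg.Agent.Lib.Helper1.FrobQ
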