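import Mathlib
import Cfsg.Agent.Lib.Helper1.FrobQ.Tower

set_option autoImplicit false
set_option linter.unusedSectionVars false

namespace Cfsg.Agent.Lib.Helper1.FrobQ

open Cfsg.Agent.Lib.Helper18.Fpf4 Cfsg.Agent.Lib.Helper1.Ward Cfsg.Agent.Lib.Helper1.FrobPQ
open scoped commutatorElement

universe u

def GTowerMainProp (p q : ℕ) : Prop :=
  ∀ (M : Type u) [CommGroup M] [Finite M] (s r ℓ : ℕ) (A F S R : Subgroup (MulAut M)),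
    GTower p q s r ℓ A F S R → ⁅S, R⁆ = ⊥

def ChevWarnProp : Prop :=
  ∀ (Y : Type u) [CommGroup Y] [Finite Y] (q : ℕ) (σ : MulAut Y) (β : Y → Y → ZMod 2)
    (X : Subgroup Y), q.Prime → q ≠ 2 → (∀ y : Y, y ^ 2 = 1) → σ ^ q = 1 →
    (∀ a b c : Y, β (a * b) c = β a c + β b c) → (∀ a b c : Y, β a (b * c) = β a b + β a c) →
    (∀ a : Y, β a a = 0) → (∀ a b : Y, β (σ a) (σ b) = β a b) → (∀ y ∈ X, σ y ∈ X) →
    2 ^ (q - 1) < Nat.card X →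
    ∃ y ∈ X, y ≠ 1 ∧ ∀ j : ℕ, β y ((σ ^ j) y) = 0

def ExcOneProp : Prop :=
  ∀ (W : Type u) [CommGroup W] [Finite W] (ℓ q r : ℕ), ℓ.Prime → q.Prime → r.Prime →
    ℓ ≠ 2 → q ≠ 2 → r ≠ 2 → ℓ ≠ q → r ≠ q → (∀ w : W, w ^ ℓ = 1) →
    ∀ (Q B : Subgroup (MulAut W)) (x : MulAut W), IsPGroup 2 Q → IsPGroup r B → x ^ q = 1 →
    x ∈ Subgroup.normalizer (Q : Set (MulAut W)) → x ∈ Subgroup.normalizer (B : Set (MulAut W)) →
    B ≤ Subgroup.normalizer (Q : Set (MulAut W)) →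
    (∀ w : W, x w = w → w = 1) → (∀ b ∈ B, x * b = b * x → b = 1) →
    (∀ y ∈ Q, ∀ z ∈ Q, y * z * y⁻¹ * z⁻¹ = 1 ∨ ∀ w : W, (y * z * y⁻¹ * z⁻¹) w = w⁻¹) →
    ⁅Q, B⁆ = Q → ∀ y ∈ Q, ∀ z ∈ Q, y * z = z * y

def ExcTwoProp : Prop :=
  ∀ (M : Type u) [CommGroup M] [Finite M] (p q s r : ℕ) (A F S R Z Z₁ : Subgroup (MulAut M)),
    FrobA p q A F → s.Prime → r.Prime → s ≠ r → s ≠ p → r ≠ p → IsPGroup s S → IsPGroup r R →
    A ≤ Subgroup.normalizer (S : Set (MulAut M)) → A ≤ Subgroup.normalizer (R : Set (MulAut M)) →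
    R ≤ Subgroup.normalizer (S : Set (MulAut M)) → ⁅S, R⁆ = S → LocalData s A Z Z₁ → Z ≤ S →
    S ≤ Subgroup.centralizer (Z : Set (MulAut M)) → R ≤ Subgroup.centralizer (Z : Set (MulAut M)) →
    (∀ y ∈ S, (∀ f ∈ F, f * y = y * f) → ∀ m : M, (∀ f ∈ F, f m = m) → y m = m) →
    (∀ z ∈ R, (∀ f ∈ F, f * z = z * f) → ∀ y ∈ S, z * y = y * z) →
    ∀ x : MulAut M, x ∈ A → x ∉ F → x ∈ stabMod Z Z₁ → False

def GTowerBridgeProp : Prop :=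
  ∀ (Γ : Type u) [Group Γ] [Finite Γ] (p q : ℕ) (A F G : Subgroup Γ), GoodF p q A F G →
    GTowerMainProp.{u} p q →
    ∀ ℓ s r : ℕ, ℓ.Prime → s.Prime → r.Prime → ℓ ≠ s → s ≠ r →
    ∀ S R : Subgroup Γ, S ≤ G → R ≤ G → IsPGroup s S → IsPGroup r R →
    A ≤ Subgroup.normalizer (S : Set Γ) → A ≤ Subgroup.normalizer (R : Set Γ) →
    R ≤ Subgroup.normalizer (S : Set Γ) →
    ⁅S, R⁆ ≤ Subgroup.centralizer ((Oq G ℓ : Subgroup Γ) : Set Γ)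

end Cfsg.Agent.Lib.Helper1.FrobQ
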