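import Mathlib
import Cfsg.Agent.Lib.Helper1.FrobPQ.NonAb
import Cfsg.Agent.Lib.Helper1.FrobQ.StepA

set_option autoImplicit false
set_option linter.unusedSectionVars false

namespace Cfsg.Agent.Lib.Helper1.FrobQ

open Cfsg.Agent.Lib.Helper18.Fpf4 Cfsg.Agent.Lib.Helper1.Ward Cfsg.Agent.Lib.Helper1.FrobPQ
open scoped commutatorElement

universe u

section general

variable {G : Type*} [Group G]

def sqCen (S : Subgroup G) (hD : ∀ a ∈ S, ∀ b ∈ S, ∀ z ∈ S, (a * b * a⁻¹ * b⁻¹) * z = z * (a * b * a⁻¹ * b⁻¹)) :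
    Subgroup G where
  carrier := {y | y ∈ S ∧ ∀ z ∈ S, y * y * z = z * (y * y)}
  one_mem' := ⟨one_mem _, fun z _ => by rw [one_mul, one_mul, mul_one]⟩
  mul_mem' := by
    rintro a b ⟨ha, ha2⟩ ⟨hb, hb2⟩
    refine ⟨mul_mem ha hb, fun z hz => ?_⟩
    have hc := hD b⁻¹ (inv_mem hb) a⁻¹ (inv_mem ha)
    have e : a * b * (a * b) = (a * a) * ((b * b) * (b⁻¹ * a⁻¹ * b⁻¹⁻¹ * a⁻¹⁻¹)) := by
      have e1 : a * b * (a * b) = (a * a) * (b * ((b⁻¹ * a⁻¹ * b⁻¹⁻¹ * a⁻¹⁻¹) * b)) := by group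
      rw [e1, hc b hb]
      group
    rw [e]
    calc a * a * (b * b * (b⁻¹ * a⁻¹ * b⁻¹⁻¹ * a⁻¹⁻¹)) * z
        = a * a * (b * b * ((b⁻¹ * a⁻¹ * b⁻¹⁻¹ * a⁻¹⁻¹) * z)) := by group
      _ = a * a * (b * b * (z * (b⁻¹ * a⁻¹ * b⁻¹⁻¹ * a⁻¹⁻¹))) := by rw [hc z hz]
      _ = a * a * ((b * b * z) * (b⁻¹ * a⁻¹ * b⁻¹⁻¹ * a⁻¹⁻¹)) := by group
      _ = a * a * ((z * (b * b)) * (b⁻¹ * a⁻¹ * b⁻¹⁻¹ * a⁻¹⁻¹)) := by rw [hb2 z hz]
      _ = (a * a * z) * ((b * b) * (b⁻¹ * a⁻¹ * b⁻¹⁻¹ * a⁻¹⁻¹)) := by group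
      _ = (z * (a * a)) * ((b * b) * (b⁻¹ * a⁻¹ * b⁻¹⁻¹ * a⁻¹⁻¹)) := by rw [ha2 z hz]
      _ = z * (a * a * (b * b * (b⁻¹ * a⁻¹ * b⁻¹⁻¹ * a⁻¹⁻¹))) := by group
  inv_mem' := by
    rintro a ⟨ha, ha2⟩
    refine ⟨inv_mem ha, fun z hz => ?_⟩
    have h1 := ha2 z hz
    calc a⁻¹ * a⁻¹ * z = (a * a)⁻¹ * (z * (a * a)) * (a * a)⁻¹ := by group
      _ = (a * a)⁻¹ * (a * a * z) * (a * a)⁻¹ := by rw [h1]
      _ = z * (a⁻¹ * a⁻¹) := by group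

theorem mem_sqCen {S : Subgroup G}
    {hD : ∀ a ∈ S, ∀ b ∈ S, ∀ z ∈ S, (a * b * a⁻¹ * b⁻¹) * z = z * (a * b * a⁻¹ * b⁻¹)} {y : G} :
    y ∈ sqCen S hD ↔ y ∈ S ∧ ∀ z ∈ S, y * y * z = z * (y * y) := Iff.rfl

theorem sqCen_le {S : Subgroup G}
    (hD : ∀ a ∈ S, ∀ b ∈ S, ∀ z ∈ S, (a * b * a⁻¹ * b⁻¹) * z = z * (a * b * a⁻¹ * b⁻¹)) :
    sqCen S hD ≤ S := fun _ hy => hy.1

theorem sqCen_norm {S : Subgroup G}
    (hD : ∀ a ∈ S, ∀ b ∈ S, ∀ z ∈ S, (a * b * a⁻¹ * b⁻¹) * z = z * (a * b * a⁻¹ * b⁻¹))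
    {E : Subgroup G} (hE : E ≤ Subgroup.normalizer (S : Set G)) :
    E ≤ Subgroup.normalizer ((sqCen S hD : Subgroup G) : Set G) := by
  apply conj_mem_of_normalizer_le
  intro g hg y hy
  refine ⟨nmem (hE hg) hy.1, fun z hz => ?_⟩
  have hz' : g⁻¹ * z * g ∈ S := nmem' (hE hg) hz
  have h1 := hy.2 _ hz'
  calc g * y * g⁻¹ * (g * y * g⁻¹) * z = g * (y * y * (g⁻¹ * z * g)) * g⁻¹ := by group
    _ = g * ((g⁻¹ * z * g) * (y * y)) * g⁻¹ := by rw [h1]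
    _ = z * (g * y * g⁻¹ * (g * y * g⁻¹)) := by group

theorem comm_sq_eq {y z : G} (hc : (y * z * y⁻¹ * z⁻¹) * y = y * (y * z * y⁻¹ * z⁻¹))
    (hy : y * y * z = z * (y * y)) : (y * z * y⁻¹ * z⁻¹) ^ 2 = 1 := by
  have e : (y * z * y⁻¹ * z⁻¹) ^ 2 = ((y * z * y⁻¹ * z⁻¹) * y) * z * y⁻¹ * z⁻¹ := by
    rw [pow_two]; group
  rw [e, hc]
  calc y * (y * z * y⁻¹ * z⁻¹) * z * y⁻¹ * z⁻¹ = (y * y * z) * y⁻¹ * y⁻¹ * z⁻¹ := by group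
    _ = z * (y * y) * y⁻¹ * y⁻¹ * z⁻¹ := by rw [hy]
    _ = 1 := by group

end general

variable {M : Type u} [CommGroup M] [Finite M]

namespace GRed

variable {p q s r ℓ : ℕ} {A F S R : Subgroup (MulAut M)}

theorem comm_central (h : GRed p q s r ℓ A F S R) :
    ∀ a ∈ S, ∀ b ∈ S, ∀ z ∈ S, (a * b * a⁻¹ * b⁻¹) * z = z * (a * b * a⁻¹ * b⁻¹) := by
  intro a ha b hb z hz
  have h1 : a * b * a⁻¹ * b⁻¹ ∈ ⁅S, S⁆ := by
    rw [← commutatorElement_def]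
    exact Subgroup.commutator_mem_commutator ha hb
  exact (Subgroup.mem_centralizer_iff.mp (h.derived_S_le h1).1 z hz).symm

theorem sq_central (h : GRed p q s r ℓ A F S R) (hs2 : s = 2)
    (hnab : ¬ ∀ a ∈ S, ∀ b ∈ S, a * b = b * a) :
    ∀ y ∈ S, ∀ z ∈ S, y * y * z = z * (y * y) := by
  by_contra hcon
  have hD := h.comm_central
  have hne : sqCen S hD ≠ S := by
    intro e
    apply hcon
    intro y hy z hz
    rw [← e] at hy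
    exact hy.2 z hz
  have hle := h.sub_le (sqCen_le hD) (sqCen_norm hD Subgroup.le_normalizer)
    (sqCen_norm hD h.T.RS) (sqCen_norm hD h.T.AS) hne
  push Not at hnab
  obtain ⟨a, ha, b, hb, hab⟩ := hnab
  have hex : ∃ k : ℕ, ∀ z ∈ S, a ^ (2 ^ k) * z = z * a ^ (2 ^ k) := by
    obtain ⟨k, hk⟩ := h.T.Sgroup ⟨a, ha⟩
    refine ⟨k, fun z _ => ?_⟩
    have h1 : a ^ (s ^ k) = 1 := congrArg Subtype.val hk
    rw [hs2] at h1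
    rw [h1, one_mul, mul_one]
  classical
  have hmin : ∀ {m : ℕ}, m < Nat.find hex → ¬ ∀ z ∈ S, a ^ (2 ^ m) * z = z * a ^ (2 ^ m) :=
    fun hm => Nat.find_min hex hm
  have hspec := Nat.find_spec hex
  obtain ⟨k₀, hk₀⟩ : ∃ k₀, k₀ = Nat.find hex := ⟨_, rfl⟩
  rw [← hk₀] at hspec
  cases k₀ with
  | zero =>
    apply hab
    have := hspec b hb
    rw [pow_zero, pow_one] at this
    exact this
  | succ k =>
    have hk : k < Nat.find hex := by rw [← hk₀]; exact Nat.lt_succ_self k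
    apply hmin hk
    have hy : a ^ (2 ^ k) ∈ sqCen S hD := by
      refine ⟨pow_mem ha _, fun z hz => ?_⟩
      have e : a ^ (2 ^ k) * a ^ (2 ^ k) = a ^ (2 ^ (k + 1)) := by
        rw [← pow_add, pow_succ, mul_two]
      rw [e]
      exact hspec z hz
    intro z hz
    exact (Subgroup.mem_centralizer_iff.mp (hle hy).1 z hz).symm

theorem comm_sq (h : GRed p q s r ℓ A F S R) (hs2 : s = 2)
    (hnab : ¬ ∀ a ∈ S, ∀ b ∈ S, a * b = b * a) :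
    ∀ y ∈ S, ∀ z ∈ S, (y * z * y⁻¹ * z⁻¹) ^ 2 = 1 := by
  intro y hy z hz
  exact comm_sq_eq (h.comm_central y hy z hz y hy) (h.sq_central hs2 hnab y hy z hz)

end GRed

end Cfsg.Agent.Lib.Helper1.FrobQ
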