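import Mathlib
import Cfsg.Agent.Lib.Helper1.FrobQ.ExcA

set_option autoImplicit false
set_option linter.unusedSectionVars false

namespace Cfsg.Agent.Lib.Helper1.FrobQ

open Cfsg.Agent.Lib.Helper18.Fpf4 Cfsg.Agent.Lib.Helper1.Ward Cfsg.Agent.Lib.Helper1.FrobPQ
open scoped commutatorElement

universe u

variable {M : Type u} [CommGroup M] [Finite M]

def resSub (W : Subgroup M) (S : Subgroup (MulAut M)) : Subgroup (MulAut ↥W) :=
  (S.subgroupOf (stabS W)).map (resHom W)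

theorem mem_resSub {W : Subgroup M} {S : Subgroup (MulAut M)} (hS : S ≤ stabS W)
    {y : MulAut ↥W} : y ∈ resSub W S ↔ ∃ a, ∃ ha : a ∈ S, resHom W ⟨a, hS ha⟩ = y := by
  constructor
  · rintro ⟨a, ha, rfl⟩
    exact ⟨a.1, Subgroup.mem_subgroupOf.mp ha, rfl⟩
  · rintro ⟨a, ha, rfl⟩
    exact Subgroup.mem_map_of_mem _ (Subgroup.mem_subgroupOf.mpr ha)

theorem res_mem_resSub {W : Subgroup M} {S : Subgroup (MulAut M)} (hS : S ≤ stabS W)
    {a : MulAut M} (ha : a ∈ S) : resHom W ⟨a, hS ha⟩ ∈ resSub W S :=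
  (mem_resSub hS).mpr ⟨a, ha, rfl⟩

theorem resSub_isPGroup {W : Subgroup M} {S : Subgroup (MulAut M)} {t : ℕ} (hS : IsPGroup t S) :
    IsPGroup t (resSub W S) :=
  (hS.comap_subtype).map _

theorem resSub_norm {W : Subgroup M} {S E : Subgroup (MulAut M)} (hS : S ≤ stabS W)
    (hE : E ≤ stabS W) (hES : E ≤ Subgroup.normalizer (S : Set (MulAut M))) :
    resSub W E ≤ Subgroup.normalizer ((resSub W S : Subgroup (MulAut ↥W)) : Set (MulAut ↥W)) := by
  apply conj_mem_of_normalizer_le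
  intro g hg y hy
  obtain ⟨e, he, rfl⟩ := (mem_resSub hE).mp hg
  obtain ⟨a, ha, rfl⟩ := (mem_resSub hS).mp hy
  have h1 : e * a * e⁻¹ ∈ S := nmem (hES he) ha
  have h2 : resHom W ⟨e, hE he⟩ * resHom W ⟨a, hS ha⟩ * (resHom W ⟨e, hE he⟩)⁻¹ =
      resHom W ⟨e * a * e⁻¹, hS h1⟩ := by
    rw [← map_inv, ← map_mul, ← map_mul]
    rfl
  rw [h2]
  exact res_mem_resSub hS h1

theorem res_mem_norm {W : Subgroup M} {S : Subgroup (MulAut M)} (hS : S ≤ stabS W)
    {g : MulAut M} (hg : g ∈ stabS W) (hgS : g ∈ Subgroup.normalizer (S : Set (MulAut M))) :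
    resHom W ⟨g, hg⟩ ∈
      Subgroup.normalizer ((resSub W S : Subgroup (MulAut ↥W)) : Set (MulAut ↥W)) := by
  have hE : Subgroup.zpowers g ≤ stabS W := by rw [Subgroup.zpowers_le]; exact hg
  have hES : Subgroup.zpowers g ≤ Subgroup.normalizer (S : Set (MulAut M)) := by
    rw [Subgroup.zpowers_le]; exact hgS
  exact resSub_norm hS hE hES (res_mem_resSub hE (Subgroup.mem_zpowers g))

theorem res_comm_of_resSub_comm {W : Subgroup M} {S : Subgroup (MulAut M)} (hS : S ≤ stabS W)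
    (hab : ∀ y ∈ resSub W S, ∀ z ∈ resSub W S, y * z = z * y) :
    ∀ d ∈ ⁅S, S⁆, ∀ w ∈ W, d w = w := by
  intro d hd
  rw [Subgroup.commutator_def] at hd
  induction hd using Subgroup.closure_induction with
  | mem d hd =>
    obtain ⟨a, ha, b, hb, rfl⟩ := hd
    intro w hw
    have h1 := hab _ (res_mem_resSub hS ha) _ (res_mem_resSub hS hb)
    have h2 : resHom W (⟨a, hS ha⟩ * ⟨b, hS hb⟩ * ⟨a, hS ha⟩⁻¹ * ⟨b, hS hb⟩⁻¹) = 1 := by
      rw [map_mul, map_mul, map_mul, map_inv, map_inv, h1]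
      group
    exact (resHom_eq_one_iff W _).mp h2 w hw
  | one => intro w _; rfl
  | mul a b _ _ ha hb =>
    intro w hw
    rw [MulAut.mul_apply, hb w hw, ha w hw]
  | inv a _ ha =>
    intro w hw
    rw [MulAut.inv_apply, MulEquiv.symm_apply_eq, ha w hw]

theorem resSub_commutator_ge {W : Subgroup M} {S R : Subgroup (MulAut M)} (hS : S ≤ stabS W)
    (hR : R ≤ stabS W) (hSR : ⁅S, R⁆ = S) : resSub W S ≤ ⁅resSub W S, resSub W R⁆ := by
  intro y hy
  obtain ⟨a, ha, rfl⟩ := (mem_resSub hS).mp hy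
  have key : ∀ d ∈ ⁅S, R⁆, ∃ hd : d ∈ stabS W, resHom W ⟨d, hd⟩ ∈ ⁅resSub W S, resSub W R⁆ := by
    intro d hd
    rw [Subgroup.commutator_def] at hd
    induction hd using Subgroup.closure_induction with
    | mem d hd =>
      obtain ⟨u, hu, v, hv, rfl⟩ := hd
      refine ⟨mul_mem (mul_mem (mul_mem (hS hu) (hR hv)) (inv_mem (hS hu))) (inv_mem (hR hv)), ?_⟩
      have h1 := Subgroup.commutator_mem_commutator (res_mem_resSub hS hu) (res_mem_resSub hR hv)
      rw [commutatorElement_def, ← map_inv, ← map_inv, ← map_mul, ← map_mul, ← map_mul] at h1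
      exact h1
    | one =>
      refine ⟨one_mem _, ?_⟩
      have : (⟨1, one_mem _⟩ : ↥(stabS W)) = 1 := rfl
      rw [this, map_one]
      exact one_mem _
    | mul a b _ _ ha hb =>
      obtain ⟨ha1, ha2⟩ := ha
      obtain ⟨hb1, hb2⟩ := hb
      refine ⟨mul_mem ha1 hb1, ?_⟩
      have : (⟨a * b, mul_mem ha1 hb1⟩ : ↥(stabS W)) = ⟨a, ha1⟩ * ⟨b, hb1⟩ := rfl
      rw [this, map_mul]
      exact mul_mem ha2 hb2
    | inv a _ ha =>
      obtain ⟨ha1, ha2⟩ := ha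
      refine ⟨inv_mem ha1, ?_⟩
      have : (⟨a⁻¹, inv_mem ha1⟩ : ↥(stabS W)) = ⟨a, ha1⟩⁻¹ := rfl
      rw [this, map_inv]
      exact inv_mem ha2
  obtain ⟨hd, h1⟩ := key a (by rw [hSR]; exact ha)
  exact h1

end Cfsg.Agent.Lib.Helper1.FrobQ
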