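import Mathlib
import Cfsg.Agent.Lib.Helper1.FrobQ.ExcB
import Cfsg.Agent.Lib.Helper20.FrobExc

set_option autoImplicit false
set_option linter.unusedSectionVars false

namespace Cfsg.Agent.Lib.Helper1.FrobQ

open Cfsg.Agent.Lib.Helper18.Fpf4 Cfsg.Agent.Lib.Helper1.Ward Cfsg.Agent.Lib.Helper1.FrobPQ
open scoped commutatorElement

universe u

variable {M : Type u} [CommGroup M] [Finite M]

theorem inv_out {s : ℕ} {A Z Z₁ : Subgroup (MulAut M)} (L : LocalData s A Z Z₁) (hs2 : s = 2)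
    {d : MulAut M} (hd : d ∈ Z) (hd1 : d ∉ Z₁) {w : M} (hw : w ∈ comp Z Z₁) : d w = w⁻¹ := by
  have h1 : d w ∈ comp Z Z₁ := L.comp_Z_inv hd hw
  have h2 : w * d w ∈ comp Z Z₁ := mul_mem hw h1
  have hd2 : d (d w) = w := by
    have h5 := L.Zs d hd
    rw [hs2, pow_two] at h5
    have e : d (d w) = (d * d) w := rfl
    rw [e, h5]
    rfl
  have h3 : d (w * d w) = w * d w := by rw [map_mul, hd2, mul_comm]
  have h4 := L.fpf_out hd hd1 h2 h3
  exact eq_inv_of_mul_eq_one_right h4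

namespace GRed

variable {p q s r ℓ : ℕ} {A F S R : Subgroup (MulAut M)}

theorem res_fpfR (h : GRed p q s r ℓ A F S R) {W : Subgroup M} (hRW : R ≤ stabS W)
    {x : MulAut M} (hxA : x ∈ A) (hxF : x ∉ F) (hxW : x ∈ stabS W)
    (hI : R ≤ Subgroup.centralizer (F : Set (MulAut M))) :
    ∀ b ∈ resSub W R, resHom W ⟨x, hxW⟩ * b = b * resHom W ⟨x, hxW⟩ → b = 1 := by
  intro b hb hcomm
  obtain ⟨y, hy, rfl⟩ := (mem_resSub hRW).mp hb
  have h1 : resHom W (⟨x, hxW⟩ * ⟨y, hRW hy⟩ * ⟨x, hxW⟩⁻¹ * ⟨y, hRW hy⟩⁻¹) = 1 := by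
    rw [map_mul, map_mul, map_mul, map_inv, map_inv, hcomm]
    group
  have h2 : ∀ w ∈ W, (x * y * x⁻¹ * y⁻¹) w = w := (resHom_eq_one_iff W _).mp h1
  have hxR : x ∈ Subgroup.normalizer (R : Set (MulAut M)) := h.T.AR hxA
  have hzA : Subgroup.zpowers x ≤ A := by rw [Subgroup.zpowers_le]; exact hxA
  have hzR : Subgroup.zpowers x ≤ Subgroup.normalizer (R : Set (MulAut M)) := hzA.trans h.T.AR
  have hzW : Subgroup.zpowers x ≤ stabS W := by rw [Subgroup.zpowers_le]; exact hxW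
  have hRN : R ≤ Subgroup.normalizer ((R ⊓ fixW W : Subgroup (MulAut M)) : Set (MulAut M)) :=
    normalizer_inf Subgroup.le_normalizer (hRW.trans (stabS_le_norm_fixW W))
  have hzN : Subgroup.zpowers x ≤
      Subgroup.normalizer ((R ⊓ fixW W : Subgroup (MulAut M)) : Set (MulAut M)) :=
    normalizer_inf hzR (hzW.trans (stabS_le_norm_fixW W))
  have hN : x * y * x⁻¹ * y⁻¹ ∈ R ⊓ fixW W :=
    Subgroup.mem_inf.mpr ⟨mul_mem (nmem hxR hy) (inv_mem hy), h2⟩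
  have hfix : ∀ a ∈ Subgroup.zpowers x, a * y * a⁻¹ * y⁻¹ ∈ R ⊓ fixW W := by
    intro a ha
    obtain ⟨n, rfl⟩ := (mem_powers_iff_mem_zpowers).mpr ha
    exact Cfsg.Agent.Lib.Helper20.FrobExc.pow_conj_mem (hzN (Subgroup.mem_zpowers x)) hN n
  obtain ⟨c, hc, hcN⟩ := Cfsg.Agent.S0022.result (Subgroup.zpowers x) R hzR
    (h.T.copAR hzA (le_refl R)) (Or.inr (h.T.solvR (le_refl R))) (R ⊓ fixW W) inf_le_left hRN hzN
    y hy hfix
  obtain ⟨hcR, hcx⟩ := Subgroup.mem_inf.mp hc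
  have hc1 : c = 1 := by
    apply h.T.fpfR c hcR
    have hsup := h.T.frob.sup_zpowers_eq hxA hxF
    have hle : F ⊔ Subgroup.zpowers x ≤ Subgroup.centralizer ({c} : Set (MulAut M)) := by
      apply sup_le
      · intro f hf
        rw [Subgroup.mem_centralizer_singleton_iff]
        exact Subgroup.mem_centralizer_iff.mp (hI hcR) f hf
      · intro a ha
        rw [Subgroup.mem_centralizer_singleton_iff]
        exact Subgroup.mem_centralizer_iff.mp hcx a ha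
    rw [hsup] at hle
    intro a ha
    have := hle ha
    rw [Subgroup.mem_centralizer_singleton_iff] at this
    exact this
  rw [hc1, mul_one] at hcN
  have hyW : y ∈ fixW W := by
    have := inv_mem hcN
    rw [inv_inv] at this
    exact this.2
  exact (resHom_eq_one_iff W _).mpr hyW

theorem caseI (hx1 : ExcOneProp.{u}) (h : GRed p q s r ℓ A F S R) (hs2 : s = 2)
    (hnab : ¬ ∀ a ∈ S, ∀ b ∈ S, a * b = b * a)
    {Z Z₁ : Subgroup (MulAut M)} (L : LocalData s A Z Z₁)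
    (hZmem : ∀ z, z ∈ ⁅S, S⁆ → z ^ s = 1 → z ∈ Z) (hZD : Z ≤ ⁅S, S⁆)
    (hSW : S ≤ stabS (comp Z Z₁)) (hRW : R ≤ stabS (comp Z Z₁))
    {x : MulAut M} (hxA : x ∈ A) (hxF : x ∉ F) (hxW : x ∈ stabS (comp Z Z₁))
    (hxfpf : ∀ w ∈ comp Z Z₁, x w = w → w = 1)
    (hI : R ≤ Subgroup.centralizer (F : Set (MulAut M))) : False := by
  have hxq : x ^ q = 1 := h.T.frob.pow_q_eq_one hxA hxF
  have hxbq : (resHom (comp Z Z₁) ⟨x, hxW⟩) ^ q = 1 := by
    rw [← map_pow]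
    have : (⟨x, hxW⟩ : ↥(stabS (comp Z Z₁))) ^ q = 1 := Subtype.ext hxq
    rw [this, map_one]
  have hQ : IsPGroup 2 (resSub (comp Z Z₁) S) := by
    have := resSub_isPGroup (W := comp Z Z₁) h.T.Sgroup
    rwa [hs2] at this
  have hB : IsPGroup r (resSub (comp Z Z₁) R) := resSub_isPGroup h.T.Rgroup
  have hcomm : ∀ y ∈ resSub (comp Z Z₁) S, ∀ z ∈ resSub (comp Z Z₁) S,
      y * z * y⁻¹ * z⁻¹ = 1 ∨ ∀ w : ↥(comp Z Z₁), (y * z * y⁻¹ * z⁻¹) w = w⁻¹ := by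
    intro y hy z hz
    obtain ⟨a, ha, rfl⟩ := (mem_resSub hSW).mp hy
    obtain ⟨b, hb, rfl⟩ := (mem_resSub hSW).mp hz
    have hdD : a * b * a⁻¹ * b⁻¹ ∈ ⁅S, S⁆ := by
      rw [← commutatorElement_def]
      exact Subgroup.commutator_mem_commutator ha hb
    have hd2 : (a * b * a⁻¹ * b⁻¹) ^ s = 1 := by
      rw [hs2]
      exact h.comm_sq hs2 hnab a ha b hb
    have hdZ : a * b * a⁻¹ * b⁻¹ ∈ Z := hZmem _ hdD hd2
    have hdS : a * b * a⁻¹ * b⁻¹ ∈ S := Subgroup.commutator_le_self S hdD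
    have e : resHom (comp Z Z₁) ⟨a, hSW ha⟩ * resHom (comp Z Z₁) ⟨b, hSW hb⟩ *
        (resHom (comp Z Z₁) ⟨a, hSW ha⟩)⁻¹ * (resHom (comp Z Z₁) ⟨b, hSW hb⟩)⁻¹ =
        resHom (comp Z Z₁) ⟨a * b * a⁻¹ * b⁻¹, hSW hdS⟩ := by
      rw [← map_inv, ← map_inv, ← map_mul, ← map_mul, ← map_mul]
      rfl
    rw [e]
    by_cases hd1 : a * b * a⁻¹ * b⁻¹ ∈ Z₁
    · left
      rw [resHom_eq_one_iff]
      intro w hw
      exact (mem_comp.mp hw).1 _ hd1
    · right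
      intro w
      apply Subtype.ext
      rw [resHom_apply]
      exact inv_out L hs2 hdZ hd1 w.2
  have hQB : ⁅resSub (comp Z Z₁) S, resSub (comp Z Z₁) R⁆ = resSub (comp Z Z₁) S := by
    apply le_antisymm
    · exact Subgroup.le_normalizer_iff_commutator_le_left.mp (resSub_norm hSW hRW h.T.RS)
    · exact resSub_commutator_ge hSW hRW h.hSR
  have hab := hx1 ↥(comp Z Z₁) ℓ q r h.T.hℓ h.T.frob.hq h.T.hr
    (fun e => h.T.hsℓ (hs2.trans e.symm)) (fun e => h.T.hsq (hs2.trans e.symm))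
    (fun e => h.T.hsr (hs2.trans e.symm)) h.T.hℓq h.T.hrq
    (fun w => Subtype.ext (h.T.expM w)) (resSub (comp Z Z₁) S) (resSub (comp Z Z₁) R)
    (resHom (comp Z Z₁) ⟨x, hxW⟩) hQ hB hxbq (res_mem_norm hSW hxW (h.T.AS hxA))
    (res_mem_norm hRW hxW (h.T.AR hxA)) (resSub_norm hSW hRW h.T.RS)
    (fun w hw => Subtype.ext (hxfpf w w.2 (congrArg Subtype.val hw)))
    (h.res_fpfR hRW hxA hxF hxW hI) hcomm hQB
  have htriv := res_comm_of_resSub_comm hSW hab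
  obtain ⟨z₀, hz₀, hz₀1⟩ := L.exists_out
  obtain ⟨w, hw1⟩ := (Subgroup.ne_bot_iff_exists_ne_one).mp L.compne
  apply hw1
  apply Subtype.ext
  exact L.fpf_out hz₀ hz₀1 w.2 (htriv z₀ (hZD hz₀) w w.2)

end GRed

end Cfsg.Agent.Lib.Helper1.FrobQ
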