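import Mathlib
import Cfsg.Agent.Lib.Helper1.FrobQ.ExcC

set_option autoImplicit false
set_option linter.unusedSectionVars false

namespace Cfsg.Agent.Lib.Helper1.FrobQ

open Cfsg.Agent.Lib.Helper18.Fpf4 Cfsg.Agent.Lib.Helper1.Ward Cfsg.Agent.Lib.Helper1.FrobPQ
open scoped commutatorElement

universe u

variable {M : Type u} [CommGroup M] [Finite M]

namespace GRed

variable {p q s r ℓ : ℕ} {A F S R : Subgroup (MulAut M)}

theorem nonab (hel : ElQuotProp.{u}) (he1 : ExcOneProp.{u}) (he2 : ExcTwoProp.{u})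
    (h : GRed p q s r ℓ A F S R)
    (hnab : ¬ ∀ a ∈ S, ∀ b ∈ S, a * b = b * a) : False := by
  have hDle := h.derived_S_le
  have hDS : ⁅S, S⁆ ≤ S := Subgroup.commutator_le_self S
  have hDne : ⁅S, S⁆ ≠ ⊥ := by
    intro e
    apply hnab
    intro a ha b hb
    have h1 := Subgroup.commutator_eq_bot_iff_le_centralizer.mp e
    exact Subgroup.mem_centralizer_iff.mp (h1 hb) a ha
  have hDab : ∀ a ∈ ⁅S, S⁆, ∀ b ∈ ⁅S, S⁆, a * b = b * a :=
    fun a ha b hb => Subgroup.mem_centralizer_iff.mp (hDle hb).1 a (hDS ha)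
  obtain ⟨Z, hZ⟩ : ∃ Z : Subgroup (MulAut M), Z = omegaSub ⁅S, S⁆ hDab s := ⟨_, rfl⟩
  have hZD : Z ≤ ⁅S, S⁆ := by rw [hZ]; exact omegaSub_le _ _ _
  have hZne : Z ≠ ⊥ := by
    rw [hZ]; exact omegaSub_ne_bot hDab h.T.hs (h.T.Sgroup.to_le hDS) hDne
  have hZab : ∀ a ∈ Z, ∀ b ∈ Z, a * b = b * a := fun a ha b hb => hDab a (hZD ha) b (hZD hb)
  have hZs : ∀ z ∈ Z, z ^ s = 1 := by
    intro z hz
    rw [hZ] at hz
    exact hz.2
  have hAZ : A ≤ Subgroup.normalizer (Z : Set (MulAut M)) := by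
    rw [hZ]; exact omegaSub_norm hDab s (normalizer_commutator h.T.AS h.T.AS)
  obtain ⟨Z₁, hZ₁Z, hZ₁ne, hZ₁max, hcompne⟩ :=
    Cfsg.Agent.Lib.Helper20.FrobHyp.exists_hyperplane Z h.T.hs hZab hZs h.T.copMs hZne
  have L : LocalData s A Z Z₁ := ⟨h.T.hs, hZab, hZs, hAZ, hZ₁Z, hZ₁ne, hZ₁max, hcompne, h.T.copMs,
    h.T.copMA, h.T.copAs, h.T.fpfM, fun z hz hfix => h.T.fpfS z (hDS (hZD hz)) hfix⟩
  obtain ⟨x, hxA, hx1, hxstab, hxfpf⟩ := L.local_main h.T.frob.toPQ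
  have hSC : S ≤ Subgroup.centralizer (Z : Set (MulAut M)) := by
    intro y hy
    rw [Subgroup.mem_centralizer_iff]
    intro z hz
    exact (Subgroup.mem_centralizer_iff.mp (hDle (hZD hz)).1 y hy).symm
  have hRC : R ≤ Subgroup.centralizer (Z : Set (MulAut M)) := by
    intro y hy
    rw [Subgroup.mem_centralizer_iff]
    intro z hz
    exact (Subgroup.mem_centralizer_iff.mp (hDle (hZD hz)).2 y hy).symm
  have hCZ : Subgroup.centralizer (Z : Set (MulAut M)) ≤ stabS (comp Z Z₁) := by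
    intro g hg
    apply mem_stabS_of_forall
    intro w hw
    apply L.comp_B_inv (Subgroup.centralizer_le_normalizer _ hg) _ hw
    exact Subgroup.centralizer_le_normalizer _ (Subgroup.centralizer_le hZ₁Z hg)
  have hxW : x ∈ stabS (comp Z Z₁) := by
    apply mem_stabS_of_forall
    intro w hw
    exact L.comp_B_inv hxstab.1 (L.stab_le_norm hxstab) hw
  by_cases hexc : x ∉ F ∧ s = 2 ∧ ∃ n : ℕ, q = 2 ^ n + 1
  · obtain ⟨hxF, hs2, -⟩ := hexc
    rcases h.dichotomy with hI | ⟨-, hIIb⟩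
    · have hZmem : ∀ z, z ∈ ⁅S, S⁆ → z ^ s = 1 → z ∈ Z := by
        intro z hz hz2
        rw [hZ]
        exact ⟨hz, hz2⟩
      exact h.caseI he1 hs2 hnab L hZmem hZD (hSC.trans hCZ) (hRC.trans hCZ) hxA hxF hxW hxfpf hI
    · have hII : ∀ z ∈ R, (∀ f ∈ F, f * z = z * f) → ∀ y ∈ S, z * y = y * z := by
        intro z hz hzF y hy
        have h1 : z ∈ R ⊓ Subgroup.centralizer (F : Set (MulAut M)) :=
          Subgroup.mem_inf.mpr ⟨hz, Subgroup.mem_centralizer_iff.mpr hzF⟩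
        exact (Subgroup.mem_centralizer_iff.mp (hIIb h1) y hy).symm
      exact he2 M p q s r A F S R Z Z₁ h.T.frob h.T.hs h.T.hr h.T.hsr h.T.hsp h.T.hrp h.T.Sgroup
        h.T.Rgroup h.T.AS h.T.AR h.T.RS h.hSR L (hZD.trans hDS) hSC hRC h.T.nilMS hII x hxA hxF
        hxstab
  have hkey : ∀ y ∈ S, ∀ w ∈ comp Z Z₁, (x * y * x⁻¹ * y⁻¹) w = w := by
    by_cases hxF : x ∈ F
    · apply hh_step h.T.hℓ h.T.hs h.T.frob.hp (Ne.symm h.T.hsℓ) h.T.hℓp h.T.hsp h.T.expM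
        (comp Z Z₁) S h.T.Sgroup x (h.T.frob.pow_p_eq_one hxF) (h.T.AS hxA) hxW (hSC.trans hCZ) hxfpf
      intro hs2 hn
      exfalso
      obtain ⟨n, hn⟩ := hn
      have hdvd := h.T.frob.q_dvd
      rw [hn, Nat.add_sub_cancel] at hdvd
      have hq2 : q = 2 :=
        (Nat.prime_dvd_prime_iff_eq h.T.frob.hq Nat.prime_two).mp (h.T.frob.hq.dvd_of_dvd_pow hdvd)
      exact h.T.hsq (hs2.trans hq2.symm)
    · apply hh_step h.T.hℓ h.T.hs h.T.frob.hq (Ne.symm h.T.hsℓ) h.T.hℓq h.T.hsq h.T.expM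
        (comp Z Z₁) S h.T.Sgroup x (h.T.frob.pow_q_eq_one hxA hxF) (h.T.AS hxA) hxW (hSC.trans hCZ)
        hxfpf
      intro hs2 hn
      exfalso
      exact hexc ⟨hxF, hs2, hn⟩
  have hSN : S ≤ Subgroup.normalizer
      ((S ⊓ fixW (comp Z Z₁) : Subgroup (MulAut M)) : Set (MulAut M)) :=
    normalizer_inf Subgroup.le_normalizer ((hSC.trans hCZ).trans (stabS_le_norm_fixW _))
  have hRN : R ≤ Subgroup.normalizer
      ((S ⊓ fixW (comp Z Z₁) : Subgroup (MulAut M)) : Set (MulAut M)) :=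
    normalizer_inf h.T.RS ((hRC.trans hCZ).trans (stabS_le_norm_fixW _))
  have hxN : ∀ y ∈ S, x * y * x⁻¹ * y⁻¹ ∈ S ⊓ fixW (comp Z Z₁) := by
    intro y hy
    exact Subgroup.mem_inf.mpr ⟨mul_mem (nmem (h.T.AS hxA) hy) (inv_mem hy), hkey y hy⟩
  apply h.ending hel hxA hx1 (S ⊓ fixW (comp Z Z₁)) inf_le_left hSN hRN hxN
  intro hsup
  have hle : S ≤ stabMod S (S ⊓ fixW (comp Z Z₁)) := by
    conv_lhs => rw [← hsup]
    apply sup_le
    · intro n hn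
      refine ⟨Subgroup.le_normalizer hn.1, fun y hy => ?_⟩
      have e : y⁻¹ * (n * y * n⁻¹) = (y⁻¹ * n * y) * n⁻¹ := by group
      rw [e]
      exact mul_mem (nmem' (hSN hy) hn) (inv_mem hn)
    · intro c hc
      refine ⟨Subgroup.le_normalizer hc.1, fun y hy => ?_⟩
      have hcy := Subgroup.mem_centralizer_iff.mp (h.CR_le_cent hc) y hy
      have e : y⁻¹ * (c * y * c⁻¹) = 1 := by rw [← hcy]; group
      rw [e]; exact one_mem _
  have hDN : ⁅S, S⁆ ≤ S ⊓ fixW (comp Z Z₁) := commutator_le_of_le_stabMod hle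
  obtain ⟨z₀, hz₀, hz₀1⟩ := L.exists_out
  obtain ⟨w, hw1⟩ := (Subgroup.ne_bot_iff_exists_ne_one).mp hcompne
  apply hw1
  apply Subtype.ext
  exact L.fpf_out hz₀ hz₀1 w.2 ((hDN (hZD hz₀)).2 w w.2)

end GRed

end Cfsg.Agent.Lib.Helper1.FrobQ
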