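import Mathlib
import Cfsg.Agent.Lib.Helper1.FrobQ.Main
import Cfsg.Agent.Lib.Helper1.FrobPQ.Assemble

set_option autoImplicit false
set_option linter.unusedSectionVars false

namespace Cfsg.Agent.Lib.Helper1.FrobQ

open Cfsg.Agent.Lib.Helper1.Ward Cfsg.Agent.Lib.Helper11.FrobTower Cfsg.Agent.Lib.Helper1.FrobPQ
open scoped commutatorElement

universe u

variable {Γ : Type u} [Group Γ] [Finite Γ]

theorem goodT_of_goodF {p q : ℕ} {A F G : Subgroup Γ} (hG : GoodF p q A F G)
    (hb : GTowerBridgeProp.{u}) (hmain : GTowerMainProp.{u} p q) : GoodT A G where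
  normal := hG.normal
  cop := by
    rw [hG.frob.card]
    exact hG.cop.symm
  solvA := hG.frob.solvable
  solv := hG.solv
  tower := by
    intro M hM hMG ℓ s r hℓ hs hr hℓs hsr S R hSM hRM hS hR hAS hAR hRS
    exact hb Γ p q A F M (hG.sub hM hMG) hmain ℓ s r hℓ hs hr hℓs hsr S R hSM hRM hS hR hAS hAR hRS

theorem goodF_main (hb : GTowerBridgeProp.{u}) (hel : ElQuotProp.{u}) (he1 : ExcOneProp.{u})
    (he2 : ExcTwoProp.{u}) {p q : ℕ} (A F G : Subgroup Γ) (hG : GoodF p q A F G) :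
    ∃ k, G.lowerCentralSeries k ≤ Cfsg.fittingOf G :=
  (goodT_of_goodF hG hb (gtowerMainProp_of_el hel he1 he2 p q)).metanil

end Cfsg.Agent.Lib.Helper1.FrobQ
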